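import Mathlib.AlgebraicGeometry.Morphisms.Flat
import Mathlib.AlgebraicGeometry.Morphisms.Integral
import Mathlib.AlgebraicGeometry.Morphisms.UniversallyInjective

/-!
# Flat quasi-compact surjective universally injective morphisms are integral
-/

universe u

open CategoryTheory CategoryTheory.Limits AlgebraicGeometry TopologicalSpace

namespace Groth.Agent.UnivHomeo24

variable {X Y : Scheme.{u}} (f : X ⟶ Y) [Flat f] [Surjective f] [QuasiCompact f] [UniversallyInjective f]

lemma isClosedMap_self : IsClosedMap f := by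
  intro C hC
  rw [← (Flat.isQuotientMap_of_surjective f).isClosed_preimage,
    Set.preimage_image_eq _ f.injective]
  exact hC

lemma universallyClosed : UniversallyClosed f := by
  refine ⟨fun X' Y' i₁ i₂ f' h => ?_⟩
  have : Flat f' := MorphismProperty.of_isPullback h.flip ‹_›
  have : Surjective f' := MorphismProperty.of_isPullback h.flip ‹_›
  have : QuasiCompact f' := MorphismProperty.of_isPullback h.flip ‹_›
  have : UniversallyInjective f' := MorphismProperty.of_isPullback h.flip ‹_›
  exact isClosedMap_self f'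

lemma isAffineHom : IsAffineHom f := by
  have hc : IsClosedMap f := isClosedMap_self f
  have hi : Function.Injective f := f.injective
  have key : ∀ y : Y, ∃ V : Y.Opens, y ∈ V ∧ IsAffineOpen V ∧ IsAffineOpen (f ⁻¹ᵁ V) := by
    intro y
    obtain ⟨x, rfl⟩ := f.surjective y
    obtain ⟨V, hV, hxV, -⟩ := exists_isAffineOpen_mem_and_subset (U := (⊤ : Y.Opens)) (x := f x) trivial
    obtain ⟨U, hU, hxU, hUV⟩ := exists_isAffineOpen_mem_and_subset (U := f ⁻¹ᵁ V) (x := x) hxV
    have ho : IsOpen (f '' (U : Set X)ᶜ)ᶜ := (hc _ U.isOpen.isClosed_compl).isOpen_compl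
    have hmem : f x ∈ (f '' (U : Set X)ᶜ)ᶜ := fun ⟨z, hz, e⟩ => hz (hi e ▸ hxU)
    obtain ⟨r, hr, hxr⟩ := hV.exists_basicOpen_le (V := ⟨_, ho⟩) ⟨f x, hmem⟩ hxV
    refine ⟨Y.basicOpen r, hxr, hV.basicOpen r, ?_⟩
    have e : f ⁻¹ᵁ Y.basicOpen r = X.basicOpen (f.appLE V U hUV r) := by
      rw [Scheme.basicOpen_appLE, eq_comm, inf_eq_right]
      intro z hz
      by_contra hzU
      exact hr hz ⟨z, hzU, rfl⟩
    rw [e]
    exact hU.basicOpen _
  choose V hyV hV hfV using key
  rw [IsZariskiLocalAtTarget.iff_of_iSup_eq_top (P := @IsAffineHom) V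
    (top_le_iff.1 fun y _ => Opens.mem_iSup.2 ⟨y, hyV y⟩)]
  intro y
  have : IsAffine (f ⁻¹ᵁ V y : X.Opens) := hfV y
  have : IsAffine (V y : Y.Opens) := hV y
  exact isAffineHom_of_isAffine _

theorem isIntegralHom : IsIntegralHom f :=
  IsIntegralHom.iff_universallyClosed_and_isAffineHom.2 ⟨universallyClosed f, isAffineHom f⟩

end Groth.Agent.UnivHomeo24
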